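import Cfsg.Agent.Lib.InvChar.CosetCert

/-! Coset enumeration certificate J3Y5 for a presented sporadic group. -/

set_option autoImplicit false
set_option maxRecDepth 100000

namespace CfsgLib.InvChar.Coset.J3Y5

/-- facts -/
noncomputable def facts : Tr := (.leaf 0x8f0000000007f000090001ef000040000100002000017f0000500000000019000026000120002040001f0001f00001e0001e30001d0001d60001c0001c70001b0001b80001a0001a4000100001940001800018000017000173000160001660001500015700014000148000130001340000c00012700011000118000100001010000f0000f00000e0000e10000d0000d00000c0000c80000b0000b70000a0000a600009000093000000000830000700007400006000063000050000540000400004300003000034000020000230000100001400000)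
/-- justifications -/
noncomputable def just : Tr := (.leaf 0x20000940001c00030030000000800000000230001f0001e000240000400005000060046001800c00010000880005c0006000084000000008c0007c0007800120090000001f0001e0001d0001c0001b0001a0001900010000110002000001428e402c000000100000c00008000040000000084000600005c0418008000000180001700016000150001400013000120000b0000a0000900008428e402c00000044000400003c0003800034000300002c00028000240002000000000040a3700a002)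
/-- relators -/
def rels : List (List ℕ) := [[0, 0], [1, 1], [2, 2], [3, 3], [4, 4], [5, 5], [6, 6], [7, 7], [8, 8], [9, 9], [5, 6, 5, 6, 5, 6], [5, 7, 5, 7, 5, 7, 5, 7, 5, 7], [6, 7, 6, 7, 6, 7], [5, 6, 7, 5, 6, 7, 5, 6, 7], [5, 6, 5, 7, 5, 6, 5, 7, 5, 6, 5, 7, 5, 6, 5, 7, 5, 6, 5, 7], [0, 1, 0, 1, 0, 4, 0, 4], [0, 2, 0, 2, 0, 4, 0, 4], [0, 3, 0, 3, 0, 4, 0, 4], [0, 4, 0, 4, 0, 4, 0, 4], [1, 2, 1, 2, 0, 4, 0, 4], [1, 3, 1, 3, 0, 4, 0, 4], [1, 4, 1, 4, 0, 4, 0, 4], [2, 3, 2, 3, 0, 4, 0, 4], [2, 4, 2, 4, 0, 4, 0, 4], [3, 4, 3, 4, 0, 4, 0, 4], [0, 1, 2, 3, 4], [5, 0, 5, 1], [5, 1, 5, 0], [5, 2, 5, 3], [5, 3, 5, 2], [5, 4, 5, 4], [6, 0, 6, 1], [6, 1, 6, 0], [6, 2, 6, 2], [6, 3, 6, 4], [6, 4, 6, 3], [7, 0, 7, 2], [7, 1, 7, 1], [7, 2, 7, 0], [7, 3, 7, 4], [7, 4, 7, 3], [4, 0, 4, 0, 4, 0, 4, 0], [4, 0, 4, 0, 1, 0, 4, 0, 4, 1], [4, 0, 4, 0, 2, 0,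 4, 0, 4, 2], [4, 0, 4, 0, 3, 0, 4, 0, 4, 3], [4, 0, 4, 0, 5, 0, 4, 0, 4, 5], [4, 0, 4, 0, 6, 0, 4, 0, 4, 6], [4, 0, 4, 0, 7, 0, 4, 0, 4, 7], [3, 6, 7, 8, 3, 6, 7, 8, 3, 6, 7, 8], [9, 3, 6, 7, 8, 9, 8, 7, 6, 3], [9, 3, 2, 5, 9, 3, 2, 5, 9, 3, 2, 5], [9, 7, 6, 3, 6, 7, 8, 9, 7, 6, 3, 6, 7, 8], [9, 3, 2, 5, 7, 6, 3, 6, 7, 8, 9, 3, 2, 5, 7, 6, 3, 6, 7, 8, 9, 3, 2, 5, 7, 6, 3, 6, 7, 8, 9, 3, 2, 5, 7, 6, 3, 6, 7, 8, 9, 3, 2, 5, 7, 6, 3, 6, 7, 8], [6, 7, 8, 3, 2, 5, 8, 7, 6, 3, 5, 2], [3, 6, 7, 8, 7, 6, 8, 7, 6, 3, 6, 7], [3, 6, 7, 8, 0, 1, 0, 1, 8, 7, 6, 3, 4], [9, 0, 1, 0, 1, 9, 5], [3, 6, 7, 8, 4, 8, 7, 6, 3, 0, 4, 0], [9, 4, 9, 7, 5, 6, 5, 7], [3, 6, 7, 8, 5, 8, 7, 6, 3, 7, 5, 6, 5, 7], [9, 5, 9, 1, 0, 1, 0], [3, 6, 7, 8, 6, 7, 5, 7, 6, 8, 7, 6, 3, 5], [9, 6, 7, 5, 7, 6, 9, 0, 4, 0], [6, 7, 8, 6, 7, 8, 6, 7]]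
/-- subgroup words -/
def subs : List (List ℕ) := []
/-- the letters, as letters of the whole group -/
def emb : List ℕ := [0, 1, 2, 3, 4, 5, 6, 7, 8, 9]
/-- certificate -/
noncomputable def cert : Cert := ⟨10, 39, 32, facts, just, rels, subs⟩

end CfsgLib.InvChar.Coset.J3Y5
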